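import Groth.Agent.H15Site.PullCoh
import Groth.Agent.H10Coh.PushAb

/-!
# Cohomology of a space from a flasque resolution
-/

set_option autoImplicit false
set_option linter.style.haveILetI false
set_option backward.isDefEq.respectTransparency false

universe u

open CategoryTheory CategoryTheory.Limits Opposite TopologicalSpace

namespace Groth.Agent.H15Site.DescTop

attribute [local instance 10000] SiteInst.hasSheafifySite SiteInst.hasWeakSheafifySite
  SiteInst.hasExtSite SiteInst.enoughInjSite
attribute [local instance] HasDerivedCategory.standard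

variable {X : TopCat.{u}}

/-- The global sections of a complex. -/
noncomputable abbrev ΓCx (L : CochainComplex (CohTop.Ab X) ℤ) : CochainComplex AddCommGrpCat.{u} ℤ :=
  ((PullCoh.Γ X).mapHomologicalComplex (ComplexShape.up ℤ)).obj L

theorem isAcyclic_sp_of_flasque {F : CohTop.Ab X} (hF : H10Coh.Flasque F) :
    H16Derived.AcyclicLES.IsAcyclic
      (sheafToPresheaf (Opens.grothendieckTopology X) AddCommGrpCat.{u}) F := by
  intro i hi
  obtain ⟨m, rfl⟩ : ∃ m, i = m + 1 := ⟨i - 1, by omega⟩
  obtain ⟨e⟩ := CmpSite.nonempty_rightDerived_sections_iso (m + 1) F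
  refine IsZero.of_iso (Functor.isZero _ fun U => ?_) e
  exact @AddCommGrpCat.isZero_of_subsingleton _ (H10Coh.subsingleton_of_flasque hF m U.unop)

/-- Flasque resolutions compute cohomology. -/
theorem nonempty_H_iso_of_flasque_res (F : CohTop.Ab X) (L : CochainComplex (CohTop.Ab X) ℤ)
    [L.IsStrictlyGE 0] (hL : ∀ k, H10Coh.Flasque (L.X k))
    (ι : (CochainComplex.singleFunctor (CohTop.Ab X) 0).obj F ⟶ L) [QuasiIso ι] (q : ℕ) :
    Nonempty ((ΓCx L).homology (q : ℤ) ≅ AddCommGrpCat.of (CohTop.H F q)) := by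
  let J := Opens.grothendieckTopology X
  let sp := sheafToPresheaf J AddCommGrpCat.{u}
  haveI := (sheafificationAdjunction J AddCommGrpCat.{u}).rightAdjoint_preservesLimits
  let ev := (evaluation (Opens X)ᵒᵖ AddCommGrpCat.{u}).obj (op ⊤)
  let R := injectiveResolution F
  let I := R.cochainComplex
  haveI : I.IsKInjective := CochainComplex.isKInjective_of_injective _ 0
  let t : DerivedCategory.Q.obj L ⟶ DerivedCategory.Q.obj I :=
    inv (DerivedCategory.Q.map ι) ≫ DerivedCategory.Q.map R.ι'
  let t' := ((DerivedCategory.quotientCompQhIso (CohTop.Ab X)).hom.app L) ≫ t ≫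
    ((DerivedCategory.quotientCompQhIso (CohTop.Ab X)).inv.app I)
  obtain ⟨g', hg'⟩ := (CochainComplex.IsKInjective.Qh_map_bijective _ I).2 t'
  obtain ⟨g, rfl⟩ := (HomotopyCategory.quotient _ _).map_surjective g'
  haveI : IsIso (DerivedCategory.Q.map g) := by
    refine (NatIso.isIso_map_iff (DerivedCategory.quotientCompQhIso (CohTop.Ab X)) g).1 ?_
    show IsIso ((DerivedCategory.Qh (C := CohTop.Ab X)).map ((HomotopyCategory.quotient _ _).map g))
    rw [hg']
    infer_instance
  haveI : QuasiIso g := (DerivedCategory.isIso_Q_map_iff_quasiIso _ _).1 inferInstance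
  have hq := H16Derived.AcyclicLES.quasiIso_map sp g 0
    (fun k => isAcyclic_sp_of_flasque (hL k))
    (fun k => isAcyclic_sp_of_flasque (H10Coh.flasque_of_injective (I.X k)))
  obtain ⟨e₁⟩ := H16Derived.AcyclicLES.nonempty_rightDerived_iso sp I 0
    (fun k => inferInstance) R.ι' q
  obtain ⟨e₂⟩ := CmpSite.nonempty_rightDerived_sections_iso q F
  obtain ⟨e₃⟩ := CohTerminal.nonempty_H_addEquiv J (T := (⊤ : Opens X))
    (IsTerminal.ofUniqueHom (fun U => homOfLE le_top) (fun _ _ => rfl)) F q
  let K := (sp.mapHomologicalComplex (ComplexShape.up ℤ)).obj L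
  exact ⟨((K.sc (q : ℤ)).mapHomologyIso ev) ≪≫
    ev.mapIso (asIso (HomologicalComplex.homologyMap
      ((sp.mapHomologicalComplex (ComplexShape.up ℤ)).map g) (q : ℤ)) ≪≫ e₁.symm ≪≫ e₂) ≪≫
    e₃.symm.toAddCommGrpIso⟩

end Groth.Agent.H15Site.DescTop
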