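import Mathlib.Algebra.BigOperators.Fin
import Mathlib.Algebra.BigOperators.Pi
import Mathlib.Data.Fin.Tuple.Basic
import Mathlib.Tactic.Abel
import Mathlib.Algebra.Module.Basic
import Mathlib.Algebra.Module.Pi

/-!
# The simplicial cochain complex of a simplex on a type of vertices
-/

set_option autoImplicit false

universe u v

namespace Groth.Agent.H15Site.DescTop.CechFin

variable {J : Type u} {M : Type v} [AddCommGroup M]

/-- Alternating sum of faces. -/
def D {k : ℕ} (c : (Fin k → J) → M) (s : Fin (k + 1) → J) : M :=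
  ∑ i : Fin (k + 1), ((-1 : ℤ) ^ (i : ℕ)) • c (s ∘ i.succAbove)

lemma D_sub {k : ℕ} (c e : (Fin k → J) → M) : D (c - e) = D c - D e := by
  funext s
  simp [D, smul_sub, Finset.sum_sub_distrib]

lemma D_cons_zero (c : (Fin 0 → J) → M) (a : J) (t : Fin 0 → J) : D c (Fin.cons a t) = c t := by
  have : Fin.cons a t ∘ (0 : Fin 1).succAbove = t := funext fun j => j.elim0
  simp [D, this]

lemma D_cons {k : ℕ} (c : (Fin (k + 1) → J) → M) (a : J) (t : Fin (k + 1) → J) :
    D c (Fin.cons a t) = c t - D (fun s => c (Fin.cons a s)) t := by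
  have e : ∀ i : Fin (k + 1), (Fin.cons a t : Fin (k + 2) → J) ∘ i.succ.succAbove =
      Fin.cons a (t ∘ i.succAbove) := fun i => funext fun j => by
    refine Fin.cases ?_ (fun l => ?_) j
    · simp
    · simp
  have e0 : (Fin.cons a t : Fin (k + 2) → J) ∘ (0 : Fin (k + 2)).succAbove = t :=
    funext fun j => by simp
  unfold D
  rw [Fin.sum_univ_succ, e0, sub_eq_add_neg, ← Finset.sum_neg_distrib]
  simp only [e, Fin.val_zero, pow_zero, one_smul, Fin.val_succ, pow_succ, mul_neg, mul_one,
    neg_smul]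

theorem D_D {k : ℕ} (c : (Fin k → J) → M) : D (D c) = 0 := by
  induction k with
  | zero =>
    funext s
    obtain ⟨a, t, rfl⟩ : ∃ a t, s = Fin.cons a t := ⟨s 0, Fin.tail s, (Fin.cons_self_tail s).symm⟩
    obtain ⟨b, w, rfl⟩ : ∃ b w, t = Fin.cons b w := ⟨t 0, Fin.tail t, (Fin.cons_self_tail t).symm⟩
    rw [D_cons, show (fun s => D c (Fin.cons a s)) = c from funext fun s => D_cons_zero c a s]
    exact sub_self _
  | succ k ih =>
    funext s
    obtain ⟨a, t, rfl⟩ : ∃ a t, s = Fin.cons a t := ⟨s 0, Fin.tail s, (Fin.cons_self_tail s).symm⟩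
    rw [D_cons, show (fun s => D c (Fin.cons a s)) = c - D (fun r => c (Fin.cons a r)) from
      funext fun s => D_cons c a s, D_sub, ih, sub_zero]
    exact sub_self _

theorem eq_zero_of_D (a : J) (c : (Fin 0 → J) → M) (h : D c = 0) : c = 0 :=
  funext fun t => (D_cons_zero c a t).symm.trans (congrFun h _)

theorem exists_D_eq {k : ℕ} (a : J) (c : (Fin (k + 1) → J) → M) (h : D c = 0) :
    ∃ b : (Fin k → J) → M, D b = c :=
  ⟨fun s => c (Fin.cons a s), funext fun t => (sub_eq_zero.1
    ((D_cons c a t).symm.trans (congrFun h _))).symm⟩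

end Groth.Agent.H15Site.DescTop.CechFin
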