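import Mathlib.Algebra.Homology.ShortComplex.Ab
import Mathlib.Algebra.Homology.ShortComplex.HomologicalComplex

/-!
# Homology of a product of complexes of abelian groups, elementwise
-/

set_option autoImplicit false
set_option backward.isDefEq.respectTransparency false

universe w u

open CategoryTheory CategoryTheory.Limits

namespace Groth.Agent.H15Site.DescTop

variable {S : ShortComplex AddCommGrpCat.{u}} {K : Type w}

lemma exists_cycle (z : S.cycles) : S.g.hom (S.iCycles.hom z) = 0 :=
  ConcreteCategory.congr_hom S.iCycles_g z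

lemma exists_homologyπ (h : S.homology) : ∃ z : S.cycles, S.homologyπ.hom z = h :=
  (AddCommGrpCat.epi_iff_surjective _).1 inferInstance h

lemma homologyπ_eq_zero (z : S.cycles) (h : S.homologyπ.hom z = 0) :
    ∃ y : S.X₁, S.f.hom y = S.iCycles.hom z := by
  let T := ShortComplex.mk S.toCycles S.homologyπ S.toCycles_comp_homologyπ
  have hT : T.Exact := ShortComplex.exact_of_g_is_cokernel _ S.homologyIsCokernel
  obtain ⟨y, hy⟩ := (ShortComplex.ab_exact_iff T).1 hT z h
  exact ⟨y, (ConcreteCategory.congr_hom S.toCycles_i y).symm.trans (congrArg S.iCycles.hom hy)⟩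

lemma iCycles_injective : Function.Injective S.iCycles.hom :=
  (AddCommGrpCat.mono_iff_injective _).1 inferInstance

/-- A jointly bijective family of maps of short complexes is jointly bijective on homology. -/
theorem bijective_homologyMap_family (T : K → ShortComplex AddCommGrpCat.{u}) (φ : ∀ σ, S ⟶ T σ)
    (h₁ : Function.Bijective fun (x : S.X₁) σ => (φ σ).τ₁.hom x)
    (h₂ : Function.Bijective fun (x : S.X₂) σ => (φ σ).τ₂.hom x)
    (h₃ : Function.Bijective fun (x : S.X₃) σ => (φ σ).τ₃.hom x) :
    Function.Bijective fun (x : S.homology) σ => (ShortComplex.homologyMap (φ σ)).hom x := by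
  have nat : ∀ σ (z : S.cycles), (ShortComplex.homologyMap (φ σ)).hom (S.homologyπ.hom z) =
      (T σ).homologyπ.hom ((ShortComplex.cyclesMap (φ σ)).hom z) := fun σ z =>
    ConcreteCategory.congr_hom (ShortComplex.homologyπ_naturality (φ σ)) z
  have natI : ∀ σ (z : S.cycles), (T σ).iCycles.hom ((ShortComplex.cyclesMap (φ σ)).hom z) =
      (φ σ).τ₂.hom (S.iCycles.hom z) := fun σ z =>
    ConcreteCategory.congr_hom (ShortComplex.cyclesMap_i (φ σ)) z
  constructor
  · intro a b hab
    obtain ⟨z, hz⟩ := exists_homologyπ (a - b)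
    have h0 : ∀ σ, ∃ y : (T σ).X₁, (T σ).f.hom y = (φ σ).τ₂.hom (S.iCycles.hom z) := fun σ => by
      rw [← natI]
      refine homologyπ_eq_zero _ ?_
      rw [← nat, hz, map_sub]
      exact sub_eq_zero.2 (congrFun hab σ)
    choose y hy using h0
    obtain ⟨w, hw⟩ := h₁.2 y
    have : S.toCycles.hom w = z := iCycles_injective (h₂.1 (funext fun σ => by
      have e : (φ σ).τ₂.hom (S.f.hom w) = (T σ).f.hom ((φ σ).τ₁.hom w) :=
        (ConcreteCategory.congr_hom (φ σ).comm₁₂ w).symm
      show (φ σ).τ₂.hom (S.iCycles.hom (S.toCycles.hom w)) = (φ σ).τ₂.hom (S.iCycles.hom z)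
      rw [show S.iCycles.hom (S.toCycles.hom w) = S.f.hom w from
        ConcreteCategory.congr_hom S.toCycles_i w, e, show (φ σ).τ₁.hom w = y σ from congrFun hw σ]
      exact hy σ))
    refine sub_eq_zero.1 (hz.symm.trans ?_)
    rw [← this]
    exact ConcreteCategory.congr_hom S.toCycles_comp_homologyπ w
  · intro b
    choose z hz using fun σ => exists_homologyπ (b σ)
    obtain ⟨x, hx⟩ := h₂.2 fun σ => (T σ).iCycles.hom (z σ)
    have hx0 : S.g.hom x = 0 := h₃.1 (funext fun σ => by
      show (φ σ).τ₃.hom (S.g.hom x) = (φ σ).τ₃.hom 0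
      rw [map_zero, show (φ σ).τ₃.hom (S.g.hom x) = (T σ).g.hom ((φ σ).τ₂.hom x) from
        (ConcreteCategory.congr_hom (φ σ).comm₂₃ x).symm,
        show (φ σ).τ₂.hom x = _ from congrFun hx σ]
      exact exists_cycle _)
    let c : S.cycles := S.abCyclesIso.inv.hom ⟨x, hx0⟩
    refine ⟨S.homologyπ.hom c, funext fun σ => (nat σ c).trans ?_⟩
    rw [← hz σ]
    refine congrArg _ (iCycles_injective ?_)
    rw [natI, show S.iCycles.hom c = x from S.abCyclesIso_inv_apply_iCycles ⟨x, hx0⟩]
    exact congrFun hx σ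

end Groth.Agent.H15Site.DescTop
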