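import Groth.Agent.H15Site.ClosedPushAb
import Groth.Agent.H15Site.SiteInst
import Mathlib.Topology.Sheaves.Skyscraper

/-!
# Stalks of pullbacks of abelian sheaves; units along closed embeddings
-/

set_option autoImplicit false
set_option linter.style.haveILetI false
set_option backward.isDefEq.respectTransparency false

universe u

open CategoryTheory CategoryTheory.Limits Opposite TopologicalSpace

namespace Groth.Agent.H15Site.DescTop

attribute [local instance 10000] SiteInst.hasSheafifySite SiteInst.hasWeakSheafifySite
  SiteInst.hasExtSite SiteInst.enoughInjSite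

/-- The stalk functor. -/
noncomputable abbrev stk {S : TopCat.{u}} (x : S) : CohTop.Ab S ⥤ AddCommGrpCat.{u} :=
  TopCat.Sheaf.forget AddCommGrpCat.{u} S ⋙ TopCat.Presheaf.stalkFunctor AddCommGrpCat.{u} x

variable {X Y : TopCat.{u}} (f : X ⟶ Y)

open Classical in
/-- Direct image of a skyscraper. -/
noncomputable def skyPushIso (z : X) :
    skyscraperSheafFunctor (C := AddCommGrpCat.{u}) z ⋙ CohTop.push f ≅
      skyscraperSheafFunctor (C := AddCommGrpCat.{u}) (f z) :=
  NatIso.ofComponents (fun A => (fullyFaithfulSheafToPresheaf _ _).preimageIso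
    (NatIso.ofComponents (fun U => eqToIso (by
      show ite _ A (⊤_ _) = ite _ A (⊤_ _)
      exact if_congr Iff.rfl rfl rfl)) (fun {U V} i => by
      by_cases h : f z ∈ V.unop
      · have h' : z ∈ (Opens.map f).obj V.unop := h
        simp [skyscraperSheafFunctor, skyscraperSheaf, skyscraperPresheaf, TopCat.Sheaf.pushforward, h, h']
      · exact ((if_neg h).symm.ndrec (terminalIsTerminal (C := AddCommGrpCat.{u}))).hom_ext _ _)))
    (fun {A B} g => by
      refine CategoryTheory.Sheaf.hom_ext (NatTrans.ext (funext fun U => ?_))
      by_cases h : f z ∈ U.unop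
      · have h' : z ∈ (Opens.map f).obj U.unop := h
        simp [skyscraperSheafFunctor, skyscraperPresheafFunctor, SkyscraperPresheafFunctor.map', h, h']
      · exact ((if_neg h).symm.ndrec (terminalIsTerminal (C := AddCommGrpCat.{u}))).hom_ext _ _)

open Classical in
/-- The stalk of a pullback. -/
noncomputable def pullStkIso (z : X) : CohTop.pull f ⋙ stk z ≅ stk (f z) :=
  (((TopCat.Sheaf.pullbackPushforwardAdjunction AddCommGrpCat.{u} f).comp
      (stalkSkyscraperSheafAdjunction z)).ofNatIsoRight (skyPushIso f z)).leftAdjointUniq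
    (stalkSkyscraperSheafAdjunction (f z))

/-- The unit of a closed embedding is an isomorphism on stalks at points of the subspace. -/
theorem isIso_stk_unit (hf : Topology.IsInducing f) (F : CohTop.Ab Y) (z : X) :
    IsIso ((stk (f z)).map
      ((TopCat.Sheaf.pullbackPushforwardAdjunction AddCommGrpCat.{u} f).unit.app F)) := by
  let adj := TopCat.Sheaf.pullbackPushforwardAdjunction AddCommGrpCat.{u} f
  have : IsIso (adj.counit.app ((CohTop.pull f).obj F)) :=
    isIso_counit_of_isInducing f _ hf _ _
  have : IsIso ((CohTop.pull f).map (adj.unit.app F)) := by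
    have h := adj.left_triangle_components F
    have : IsIso ((CohTop.pull f).map (adj.unit.app F) ≫ adj.counit.app ((CohTop.pull f).obj F)) := by
      rw [show (CohTop.pull f).map (adj.unit.app F) ≫ adj.counit.app ((CohTop.pull f).obj F) = 𝟙 _ from h]
      exact IsIso.id _
    exact IsIso.of_isIso_comp_right _ (adj.counit.app ((CohTop.pull f).obj F))
  exact (NatIso.isIso_map_iff (pullStkIso f z) (adj.unit.app F)).1
    (inferInstanceAs (IsIso ((stk z).map ((CohTop.pull f).map (adj.unit.app F)))))

end Groth.Agent.H15Site.DescTop
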