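import Groth.Agent.H15Site.DescTop.TopRes
import Groth.Agent.H15Site.DescTop.StalkPull
import Groth.Agent.H15Site.DoubleSS.Engine
import Groth.Agent.H15Site.Godement
import Mathlib.Topology.Sheaves.Abelian
import Mathlib.Algebra.Homology.Embedding.ExtendHomology
import Mathlib.Algebra.Homology.SingleHomology
import Mathlib.Algebra.Homology.QuasiIso
import Mathlib.Algebra.Homology.HomologicalBicomplex

/-!
# The spectral sequence of a resolution of an abelian sheaf on a space
-/

set_option autoImplicit false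
set_option linter.style.haveILetI false
set_option linter.unusedSectionVars false
set_option backward.isDefEq.respectTransparency false

universe u

open CategoryTheory CategoryTheory.Limits Opposite TopologicalSpace

namespace Groth.Agent.H15Site.DescTop

open Groth.Agent.H15Site.Godement

attribute [local instance 10000] SiteInst.hasSheafifySite SiteInst.hasWeakSheafifySite
  SiteInst.hasExtSite SiteInst.enoughInjSite

variable {S : TopCat.{u}}

instance additive_stk (x : S) : (stk x).Additive where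
  map_add {F G φ ψ} := (TopCat.Presheaf.stalkFunctor AddCommGrpCat.{u} x).map_add (f := φ.hom) (g := ψ.hom)

instance additive_god : (god (X := S)).Additive where
  map_add {F G φ ψ} := by
    refine CategoryTheory.Sheaf.hom_ext ?_
    ext U s
    funext x
    exact ConcreteCategory.congr_hom
      ((TopCat.Presheaf.stalkFunctor AddCommGrpCat.{u} x.1).map_add (f := φ.hom) (g := ψ.hom)) (s x)

/-- Germ families are sheafwise exact on sections. -/
theorem exact_map_god_sections {T : ShortComplex (CohTop.Ab S)} (hT : T.Exact) (U : (Opens S)ᵒᵖ) :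
    ((T.map (god (X := S))).map (sheafToPresheaf _ _ ⋙
      (evaluation (Opens S)ᵒᵖ AddCommGrpCat.{u}).obj U)).Exact := by
  rw [ShortComplex.ab_exact_iff]
  intro s hs
  have h : ∀ x, (T.map (stk x)).Exact := (TopCat.Sheaf.exact_iff_stalkFunctor_map_exact T).1 hT
  have hx : ∀ x, ∃ a, ((stk x.1).map T.f).hom a = s x := fun x =>
    (ShortComplex.ab_exact_iff _).1 (h x.1) (s x) (congrFun hs x)
  choose a ha using hx
  exact ⟨fun x => a x, funext ha⟩

variable (C : CochainComplex (CohTop.Ab S) ℤ)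

/-- The germ complex. -/
noncomputable abbrev godCx : CochainComplex (CohTop.Ab S) ℤ :=
  ((god (X := S)).mapHomologicalComplex (ComplexShape.up ℤ)).obj C

/-- The germ map. -/
noncomputable abbrev toGodCx : C ⟶ godCx C :=
  (NatTrans.mapHomologicalComplex toGod (ComplexShape.up ℤ)).app C

instance mono_toGodCx : Mono (toGodCx C) := by
  have : ∀ p, Mono ((toGodCx C).f p) := fun p => mono_toGod (C.X p)
  exact HomologicalComplex.mono_of_mono_f _ this

theorem acyclic_godCx (hC : C.Acyclic) : (godCx C).Acyclic := fun p => by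
  have hex : (C.sc p).Exact := hC p
  refine (TopCat.Sheaf.exact_iff_stalkFunctor_map_exact _).2 fun x => ?_
  rw [ShortComplex.ab_exact_iff]
  intro s hs
  let T := (C.sc p).map (god (X := S))
  obtain ⟨U, hxU, t, rfl⟩ := TopCat.Presheaf.exists_germ_eq (T.X₂).obj s
  change ((TopCat.Presheaf.stalkFunctor AddCommGrpCat.{u} x).map T.g.hom)
    (TopCat.Presheaf.germ T.X₂.obj U x hxU t) = 0 at hs
  rw [TopCat.Presheaf.stalkFunctor_map_germ_apply] at hs
  have h0 : TopCat.Presheaf.germ T.X₃.obj U x hxU (T.g.hom.app (op U) t) =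
      TopCat.Presheaf.germ T.X₃.obj U x hxU 0 := hs.trans (map_zero _).symm
  obtain ⟨W, hxW, iU, iU', hW⟩ := TopCat.Presheaf.germ_eq T.X₃.obj x hxU hxU _ _ h0
  have hW' : T.g.hom.app (op W) (T.X₂.obj.map iU.op t) = 0 :=
    (ConcreteCategory.congr_hom (T.g.hom.naturality iU.op) t).trans (hW.trans (map_zero _))
  obtain ⟨a, ha⟩ := (ShortComplex.ab_exact_iff _).1 (exact_map_god_sections hex (op W)) _ hW'
  refine ⟨TopCat.Presheaf.germ T.X₁.obj W x hxW a, ?_⟩
  refine (TopCat.Presheaf.stalkFunctor_map_germ_apply W x hxW T.f.hom a).trans ?_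
  refine (congrArg _ ha).trans ?_
  exact TopCat.Presheaf.germ_res_apply T.X₂.obj iU x hxW t

/-- The cokernel complexes. -/
noncomputable def Cn : ℕ → CochainComplex (CohTop.Ab S) ℤ
  | 0 => C
  | n + 1 => cokernel (toGodCx (Cn n))

theorem acyclic_Cn (hC : C.Acyclic) : ∀ n, (Cn C n).Acyclic
  | 0 => hC
  | n + 1 => fun p => by
    have hS : (ShortComplex.mk (toGodCx (Cn C n)) (cokernel.π _) (cokernel.condition _)).ShortExact :=
      { exact := ShortComplex.exact_cokernel _ }
    rw [HomologicalComplex.exactAt_iff_isZero_homology]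
    exact (hS.homology_exact₃ p (p + 1) rfl).isZero_of_both_zeros
      (((acyclic_godCx _ (acyclic_Cn hC n)) p).isZero_homology.eq_of_src _ _)
      (((acyclic_Cn hC n) (p + 1)).isZero_homology.eq_of_tgt _ _)

theorem isZero_Cn_X (p : ℤ) (h : IsZero (C.X p)) : ∀ n, IsZero ((Cn C n).X p)
  | 0 => h
  | n + 1 => by
    have := isZero_Cn_X p h n
    refine IsZero.of_epi ((cokernel.π (toGodCx (Cn C n))).f p) ?_
    exact (god (X := S)).map_isZero this

/-- The Godement complexes of the terms, as one double complex indexed by the resolution degree. -/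
noncomputable def godRes : CochainComplex (CochainComplex (CohTop.Ab S) ℤ) ℕ :=
  CochainComplex.of (fun n => godCx (Cn C n))
    (fun n => cokernel.π (toGodCx (Cn C n)) ≫ toGodCx (Cn C (n + 1)))
    (fun n => by
      show (cokernel.π _ ≫ _) ≫ cokernel.π _ ≫ _ = 0
      simp only [Category.assoc]
      rw [show toGodCx (Cn C (n + 1)) ≫ cokernel.π (toGodCx (Cn C (n + 1))) ≫ toGodCx (Cn C (n + 1 + 1)) = 0
        from by rw [cokernel.condition_assoc, zero_comp], comp_zero])

theorem godRes_d (n : ℕ) :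
    (godRes C).d n (n + 1) = cokernel.π (toGodCx (Cn C n)) ≫ toGodCx (Cn C (n + 1)) := by
  exact CochainComplex.of_d (fun n => godCx (Cn C n))
    (fun n => cokernel.π (toGodCx (Cn C n)) ≫ toGodCx (Cn C (n + 1))) n

/-- Flipped: for each `p` the Godement resolution of `C^p`. -/
noncomputable abbrev godFlip : CochainComplex (CochainComplex (CohTop.Ab S) ℕ) ℤ :=
  HomologicalComplex₂.flip (godRes C)

/-- Indexed by integers in both directions. -/
noncomputable def godDbl : CochainComplex (CochainComplex (CohTop.Ab S) ℤ) ℤ :=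
  ((ComplexShape.embeddingUpNat.extendFunctor (CohTop.Ab S)).mapHomologicalComplex (ComplexShape.up ℤ)).obj
    (godFlip C)

/-- The augmentation. -/
noncomputable def ι₀ (p : ℤ) :
    (CochainComplex.single₀ (CohTop.Ab S)).obj (C.X p) ⟶ (godFlip C).X p :=
  (CochainComplex.fromSingle₀Equiv _ _).symm ⟨toGod.app (C.X p), by
    show (toGodCx (Cn C 0)).f p ≫ ((godRes C).d 0 1).f p = 0
    rw [show ((godRes C).d 0 1) = cokernel.π (toGodCx (Cn C 0)) ≫ toGodCx (Cn C 1) from godRes_d C 0,
      HomologicalComplex.comp_f, ← Category.assoc, ← HomologicalComplex.comp_f, cokernel.condition,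
      HomologicalComplex.zero_f, zero_comp]⟩

theorem exact_step (n : ℕ) (p : ℤ) :
    (ShortComplex.mk ((toGodCx (Cn C n)).f p) ((cokernel.π (toGodCx (Cn C n))).f p)
      (by rw [← HomologicalComplex.comp_f, cokernel.condition, HomologicalComplex.zero_f])).Exact :=
  (ShortComplex.exact_cokernel (toGodCx (Cn C n))).map
    (HomologicalComplex.eval (CohTop.Ab S) (ComplexShape.up ℤ) p)

theorem quasiIso_ι₀ (p : ℤ) : QuasiIso (ι₀ C p) := by
  refine ⟨fun n => ?_⟩
  cases n with
  | zero =>
    rw [CochainComplex.quasiIsoAt₀_iff, ShortComplex.quasiIso_iff_of_zeros]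
    · let T := ShortComplex.mk (toGod.app (C.X p)) (((godRes C).d 0 1).f p) (by
          show (toGodCx (Cn C 0)).f p ≫ _ = 0
          rw [show ((godRes C).d 0 1) = cokernel.π (toGodCx (Cn C 0)) ≫ toGodCx (Cn C 1) from godRes_d C 0,
            HomologicalComplex.comp_f, ← Category.assoc, ← HomologicalComplex.comp_f,
            cokernel.condition, HomologicalComplex.zero_f, zero_comp])
      refine (ShortComplex.exact_and_mono_f_iff_of_iso (S₂ := T) ?_).2 ⟨?_, ?_⟩
      · exact ShortComplex.isoMk (Iso.refl _) (Iso.refl _) (Iso.refl _)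
          (by simp [T, ι₀]) (by simp [T])
      · have hm : Mono ((toGodCx (Cn C 1)).f p) := mono_toGod _
        let φ : ShortComplex.mk ((toGodCx (Cn C 0)).f p) ((cokernel.π (toGodCx (Cn C 0))).f p)
            (by rw [← HomologicalComplex.comp_f, cokernel.condition, HomologicalComplex.zero_f]) ⟶ T :=
          { τ₁ := 𝟙 _, τ₂ := 𝟙 _, τ₃ := (toGodCx (Cn C 1)).f p
            comm₁₂ := (Category.id_comp _).trans (Category.comp_id _).symm
            comm₂₃ := (Category.id_comp _).trans
              (congrArg (fun f => HomologicalComplex.Hom.f f p) (godRes_d C 0)) }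
        have : Epi φ.τ₁ := inferInstanceAs (Epi (𝟙 _))
        have : IsIso φ.τ₂ := inferInstanceAs (IsIso (𝟙 _))
        have : Mono φ.τ₃ := hm
        exact (ShortComplex.exact_iff_of_epi_of_isIso_of_mono φ).1 (exact_step C 0 p)
      · exact mono_toGod (C.X p)
    all_goals rfl
  | succ n =>
    rw [quasiIsoAt_iff_exactAt _ _ (HomologicalComplex.exactAt_single_obj _ _ _ _ (by simp)),
      HomologicalComplex.exactAt_iff' _ n (n + 1) (n + 1 + 1) (by simp) (by simp)]
    let S₁ := ShortComplex.mk ((toGodCx (Cn C (n + 1))).f p) ((cokernel.π (toGodCx (Cn C (n + 1)))).f p)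
      (by rw [← HomologicalComplex.comp_f, cokernel.condition, HomologicalComplex.zero_f])
    let S₃ := ((godFlip C).X p).sc' n (n + 1) (n + 1 + 1)
    have hm : Mono ((toGodCx (Cn C (n + 1 + 1))).f p) := mono_toGod _
    have he : Epi ((cokernel.π (toGodCx (Cn C n))).f p) := inferInstance
    let S₂ := ShortComplex.mk (((cokernel.π (toGodCx (Cn C n))).f p) ≫ S₁.f) S₁.g
      (by rw [Category.assoc, S₁.zero, comp_zero])
    let ψ : S₂ ⟶ S₁ :=
      { τ₁ := (cokernel.π (toGodCx (Cn C n))).f p, τ₂ := 𝟙 _, τ₃ := 𝟙 _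
        comm₁₂ := (Category.comp_id _).symm
        comm₂₃ := (Category.id_comp _).trans (Category.comp_id _).symm }
    have : Epi ψ.τ₁ := he
    have : IsIso ψ.τ₂ := inferInstanceAs (IsIso (𝟙 _))
    have : Mono ψ.τ₃ := inferInstanceAs (Mono (𝟙 _))
    have h₂ : S₂.Exact := (ShortComplex.exact_iff_of_epi_of_isIso_of_mono ψ).2 (exact_step C (n + 1) p)
    let φ : S₂ ⟶ S₃ :=
      { τ₁ := 𝟙 _, τ₂ := 𝟙 _, τ₃ := (toGodCx (Cn C (n + 1 + 1))).f p
        comm₁₂ := (Category.id_comp _).trans ((congrArg (fun f => HomologicalComplex.Hom.f f p)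
          (godRes_d C n)).trans (Category.comp_id _).symm)
        comm₂₃ := (Category.id_comp _).trans
          (congrArg (fun f => HomologicalComplex.Hom.f f p) (godRes_d C (n + 1))) }
    have : Epi φ.τ₁ := inferInstanceAs (Epi (𝟙 _))
    have : IsIso φ.τ₂ := inferInstanceAs (IsIso (𝟙 _))
    have : Mono φ.τ₃ := hm
    exact (ShortComplex.exact_iff_of_epi_of_isIso_of_mono φ).1 h₂

instance isStrictlyGE_godDbl (p : ℤ) : ((godDbl C).X p).IsStrictlyGE 0 := by
  rw [CochainComplex.isStrictlyGE_iff]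
  intro q hq
  exact ((godFlip C).X p).isZero_extend_X ComplexShape.embeddingUpNat q fun n hn => by
    simp at hn; omega

theorem flasque_of_iso {F G : CohTop.Ab S} (e : F ≅ G) (hG : H10Coh.Flasque G) : H10Coh.Flasque F := by
  intro U V h s
  obtain ⟨t, ht⟩ := hG h (e.hom.hom.app (op V) s)
  refine ⟨e.inv.hom.app (op U) t, ?_⟩
  refine ((ConcreteCategory.congr_hom (e.inv.hom.naturality (homOfLE h).op) t).symm.trans ?_)
  refine (congrArg (e.inv.hom.app (op V)) ht).trans ?_
  exact ConcreteCategory.congr_hom (congr_app (congrArg (fun f => f.hom) e.hom_inv_id) (op V)) s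

theorem flasque_godDbl (p q : ℤ) : H10Coh.Flasque (((godDbl C).X p).X q) := by
  rcases Int.lt_or_le q 0 with hq | hq
  · intro U V h s
    refine ⟨0, ?_⟩
    have := AddCommGrpCat.subsingleton_of_isZero
      ((sheafToPresheaf _ _ ⋙ (evaluation _ AddCommGrpCat.{u}).obj (op V)).map_isZero
        (CochainComplex.isZero_of_isStrictlyGE ((godDbl C).X p) 0 q hq))
    exact @Subsingleton.elim _ this _ _
  · obtain ⟨n, rfl⟩ := Int.eq_ofNat_of_zero_le hq
    exact flasque_of_iso (((godFlip C).X p).extendXIso ComplexShape.embeddingUpNat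
      (show ComplexShape.embeddingUpNat.f n = (n : ℤ) from rfl)) (flasque_god _)

/-- The double complex of global sections. -/
noncomputable abbrev dbl : DoubleSS.Dbl.{u} :=
  (((PullCoh.Γ S).mapHomologicalComplex (ComplexShape.up ℤ)).mapHomologicalComplex
    (ComplexShape.up ℤ)).obj (godDbl C)

theorem nonempty_H_iso (p : ℤ) (q : ℕ) :
    Nonempty (((dbl C).X p).homology (q : ℤ) ≅ AddCommGrpCat.of (CohTop.H (C.X p) q)) := by
  haveI := quasiIso_ι₀ C p
  haveI := (HomologicalComplex.quasiIso_extendMap_iff (ι₀ C p) ComplexShape.embeddingUpNat).2 inferInstance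
  let ι : (CochainComplex.singleFunctor (CohTop.Ab S) 0).obj (C.X p) ⟶ (godDbl C).X p :=
    (HomologicalComplex.extendSingleIso (i := 0) (i' := 0) ComplexShape.embeddingUpNat (C.X p)
      (by simp)).inv ≫ HomologicalComplex.extendMap (ι₀ C p) ComplexShape.embeddingUpNat
  haveI : QuasiIso ι := quasiIso_comp _ (HomologicalComplex.extendMap (ι₀ C p) ComplexShape.embeddingUpNat)
  exact nonempty_H_iso_of_flasque_res (C.X p) ((godDbl C).X p) (flasque_godDbl C p) ι q

theorem dbl_row_exact (hC : C.Acyclic) (p q : ℤ) (x : ((dbl C).X p).X q)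
    (hx : (((dbl C).d p (p + 1)).f q).hom x = 0) :
    ∃ y : ((dbl C).X (p - 1)).X q, (((dbl C).d (p - 1) p).f q).hom y = x := by
  rcases Int.lt_or_le q 0 with hq | hq
  · have := AddCommGrpCat.subsingleton_of_isZero ((PullCoh.Γ S).map_isZero
      (CochainComplex.isZero_of_isStrictlyGE ((godDbl C).X p) 0 q hq))
    exact ⟨0, @Subsingleton.elim _ this _ _⟩
  · obtain ⟨n, rfl⟩ := Int.eq_ofNat_of_zero_le hq
    let Γ := PullCoh.Γ S
    let e := fun i : ℤ => Γ.mapIso (((godFlip C).X i).extendXIso ComplexShape.embeddingUpNat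
      (show ComplexShape.embeddingUpNat.f n = (n : ℤ) from rfl))
    let Y := godCx (Cn C n)
    have hd : ∀ i j (z : ((dbl C).X i).X (n : ℤ)), (((dbl C).d i j).f (n : ℤ)).hom z =
        (e j).inv.hom ((Γ.map (Y.d i j)).hom ((e i).hom.hom z)) := fun i j z => by
      show (Γ.map ((HomologicalComplex.extendMap ((godFlip C).d i j)
        ComplexShape.embeddingUpNat).f (n : ℤ))).hom z = _
      rw [HomologicalComplex.extendMap_f _ _ (show ComplexShape.embeddingUpNat.f n = (n : ℤ) from rfl),
        Γ.map_comp, Γ.map_comp]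
      rfl
    have hex : ((Cn C n).sc' (p - 1) p (p + 1)).Exact :=
      ((Cn C n).exactAt_iff' _ _ _ (by simp) (by simp)).1 (acyclic_Cn C hC n p)
    have h0 : (Γ.map (Y.d p (p + 1))).hom ((e p).hom.hom x) = 0 := by
      rw [hd] at hx
      have h1 := congrArg (e (p + 1)).hom.hom hx
      rw [map_zero] at h1
      exact (ConcreteCategory.congr_hom (e (p + 1)).inv_hom_id _).symm.trans h1
    obtain ⟨a, ha⟩ := (ShortComplex.ab_exact_iff _).1 (exact_map_god_sections hex (op ⊤)) _ h0
    refine ⟨(e (p - 1)).inv.hom a, ?_⟩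
    rw [hd]
    refine (congrArg (fun z => (e p).inv.hom ((Γ.map (Y.d (p - 1) p)).hom z))
      (ConcreteCategory.congr_hom (e (p - 1)).inv_hom_id a)).trans ?_
    refine (congrArg (e p).inv.hom ha).trans ?_
    exact ConcreteCategory.congr_hom (e p).hom_inv_id x

/-- **The spectral sequence of a resolution**: for an exact complex `C` in degrees `≥ -1`,
`E₁^{p,q} = H^q(S, C^p) ⇒ H^{p+q}(S, C^{-1})`. -/
theorem resolution_spectralSequence (hC : C.Acyclic) (hp : ∀ p, p < -1 → IsZero (C.X p))
    (E₁ : ℤ → ℤ → AddCommGrpCat.{u}) (H : ℤ → AddCommGrpCat.{u})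
    (he : ∀ p q : ℤ, 0 ≤ p → 0 ≤ q →
      Nonempty (AddCommGrpCat.of (CohTop.H (C.X p) q.toNat) ≅ E₁ p q))
    (hz : ∀ p q : ℤ, ¬ (0 ≤ p ∧ 0 ≤ q) → IsZero (E₁ p q))
    (hH : ∀ n : ℤ, 0 ≤ n → Nonempty (AddCommGrpCat.of (CohTop.H (C.X (-1)) n.toNat) ≅ H n))
    (hHz : ∀ n : ℤ, n < 0 → IsZero (H n)) :
    ∃ (E : CohomologicalSpectralSequence AddCommGrpCat.{u} 1) (a : SpSeq.Abutment E H),
      (∀ n, a.IsFinite n) ∧ SpSeq.IsBounded E ∧
      ∀ p q : ℤ, Nonempty ((E.page 1 le_rfl).X (p, q) ≅ E₁ p q) := by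
  have hq : ∀ p q : ℤ, q < 0 → IsZero (((dbl C).X p).X q) := fun p q hq =>
    (PullCoh.Γ S).map_isZero (CochainComplex.isZero_of_isStrictlyGE ((godDbl C).X p) 0 q hq)
  refine DoubleSS.exists_spectralSequence (dbl C) (fun p hp' => ?_) hq (dbl_row_exact C hC) E₁ H
    (fun p q h1 h2 => ?_) hz (fun n => ?_)
  · refine ((PullCoh.Γ S).mapHomologicalComplex (ComplexShape.up ℤ)).map_isZero
      ((ComplexShape.embeddingUpNat.extendFunctor (CohTop.Ab S)).map_isZero ?_)
    rw [IsZero.iff_id_eq_zero]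
    refine HomologicalComplex.hom_ext _ _ fun n => ?_
    exact ((god (X := S)).map_isZero (isZero_Cn_X C p (hp p hp') n)).eq_of_src _ _
  · obtain ⟨q, rfl⟩ := Int.eq_ofNat_of_zero_le h2
    exact ⟨(nonempty_H_iso C p q).some ≪≫ (he p q h1 h2).some⟩
  · rcases Int.lt_or_le n 0 with hn | hn
    · refine ⟨IsZero.iso ?_ (hHz n hn)⟩
      exact HomologicalComplex.ExactAt.isZero_homology (ShortComplex.exact_of_isZero_X₂ _ (hq _ n hn))
    · obtain ⟨n, rfl⟩ := Int.eq_ofNat_of_zero_le hn
      exact ⟨(nonempty_H_iso C (-1) n).some ≪≫ (hH n hn).some⟩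

end Groth.Agent.H15Site.DescTop
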