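import Groth.Agent.H15Site.DescTop.LFProd
import Groth.Agent.H15Site.DescTop.ResSS
import Groth.Agent.H15Site.DescTop.PiHomology
import Groth.Agent.H15Site.DescTop.CechFin
import Mathlib.Algebra.Homology.Embedding.Basic

/-!
# The Čech resolution of a sheaf attached to a locally finite closed covering
-/

set_option autoImplicit false
set_option linter.style.haveILetI false
set_option linter.unusedSectionVars false
set_option backward.isDefEq.respectTransparency false

universe u

open CategoryTheory CategoryTheory.Limits Opposite TopologicalSpace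

namespace Groth.Agent.H15Site.DescTop.ClosedCover

open Groth.Agent.H15Site PullCoh

attribute [local instance 10000] SiteInst.hasSheafifySite SiteInst.hasWeakSheafifySite
  SiteInst.hasExtSite SiteInst.enoughInjSite

variable {S : TopCat.{u}} (F : CohTop.Ab S)

/-- The inclusion of a subspace. -/
abbrev incl (A : Set S) : TopCat.of A ⟶ S := TopCat.ofHom ⟨Subtype.val, continuous_subtype_val⟩

/-- `i_* i^* F`. -/
noncomputable abbrev Q (A : Set S) : CohTop.Ab S := (CohTop.push (incl A)).obj (G F (incl A))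

/-- The unit. -/
noncomputable abbrev η (A : Set S) : F ⟶ Q F A := (adjP (incl A)).unit.app F

/-- The restriction. -/
noncomputable def res {A A' : Set S} (h : A' ⊆ A) : Q F A ⟶ Q F A' :=
  (CohTop.push (incl A)).map
    (φ F (TopCat.ofHom ⟨Set.inclusion h, continuous_inclusion h⟩ : TopCat.of A' ⟶ TopCat.of A)
      (incl A) (incl A') rfl)

theorem η_res {A A' : Set S} (h : A' ⊆ A) : η F A ≫ res F h = η F A' :=
  ((adjP (incl A)).homEquiv_unit _ _ _).symm.trans
    (((adjP (incl A)).homEquiv _ _).apply_symm_apply _ |>.trans (Category.comp_id _))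

theorem isIso_stk_η (A : Set S) {x : S} (hx : x ∈ A) : IsIso ((stk x).map (η F A)) :=
  isIso_stk_unit (incl A) Topology.IsEmbedding.subtypeVal.isInducing F ⟨x, hx⟩

variable {I : Type u} (U : I → Set S)

/-- The intersection of a tuple. -/
abbrev Zs {k : ℕ} (σ : Fin k → I) : Set S := ⋂ j, U (σ j)

lemma Zs_face {k : ℕ} (τ : Fin (k + 1) → I) (i : Fin (k + 1)) :
    Zs U τ ⊆ Zs U (τ ∘ i.succAbove) := fun _ hy =>
  Set.mem_iInter.2 fun j => Set.mem_iInter.1 hy (i.succAbove j)

/-- The factor of a tuple. -/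
noncomputable abbrev fam (k : ℕ) (σ : Fin k → I) : CohTop.Ab S := Q F (Zs U σ)

/-- The terms. -/
noncomputable abbrev X (k : ℕ) : CohTop.Ab S := ∏ᶜ fam F U k

/-- The differential. -/
noncomputable def d (k : ℕ) : X F U k ⟶ X F U (k + 1) :=
  Pi.lift fun τ => ∑ i : Fin (k + 1),
    ((-1 : ℤ) ^ (i : ℕ)) • (Pi.π (fam F U k) (τ ∘ i.succAbove) ≫ res F (Zs_face U τ i))

variable (hU : ∀ i, IsClosed (U i)) (hlf : LocallyFinite U)

include hU hlf in
theorem lfFam (k : ℕ) : LFFam (fam F U k) (Zs U) where
  closed σ := isClosed_iInter fun j => hU _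
  supp σ W hW := ClosedPushAb.subsingleton_sections_bot (G F (incl (Zs U σ)))
    (le_bot_iff.1 fun y hy => Set.disjoint_left.1 hW hy y.2)
  lf x := by
    obtain ⟨N, hN, hfin⟩ := hlf x
    obtain ⟨W, hWN, hW, hxW⟩ := mem_nhds_iff.1 hN
    refine ⟨⟨W, hW⟩, hxW, (Set.Finite.pi fun _ : Fin k => hfin).subset fun σ hσ j _ => ?_⟩
    obtain ⟨y, hyW, hy⟩ := Set.not_disjoint_iff.1 hσ
    exact ⟨y, Set.mem_iInter.1 hy j, hWN hyW⟩

/-- Evaluation of morphisms at an element. -/
noncomputable def evHom {A B : AddCommGrpCat.{u}} (a : A) : (A ⟶ B) →+ B where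
  toFun f := f.hom a
  map_zero' := rfl
  map_add' _ _ := rfl

section Coordinates

variable (x : S)

/-- Indices of the members containing `x`. -/
abbrev Idx : Type u := {i : I // x ∈ U i}

lemma mem_Zs {k : ℕ} (s : Fin k → Idx U x) : x ∈ Zs U (fun j => (s j).1) :=
  Set.mem_iInter.2 fun j => (s j).2

/-- The coordinates of a stalk element. -/
noncomputable def coord (k : ℕ) :
    (stk x).obj (X F U k) →+ ((Fin k → Idx U x) → (stk x).obj F) where
  toFun a s :=
    haveI := isIso_stk_η F (Zs U (fun j => (s j).1)) (mem_Zs U x s)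
    (inv ((stk x).map (η F (Zs U (fun j => (s j).1))))).hom
      (comp (fam F U k) x (fun j => (s j).1) a)
  map_zero' := funext fun s => by simp only [map_zero]; rfl
  map_add' a b := funext fun s => by simp only [map_add]; rfl

lemma η_coord {k : ℕ} (a : (stk x).obj (X F U k)) (s : Fin k → Idx U x) :
    ((stk x).map (η F (Zs U (fun j => (s j).1)))).hom (coord F U x k a s) =
      comp (fam F U k) x (fun j => (s j).1) a := by
  haveI := isIso_stk_η F (Zs U (fun j => (s j).1)) (mem_Zs U x s)
  exact ConcreteCategory.congr_hom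
    (IsIso.inv_hom_id ((stk x).map (η F (Zs U (fun j => (s j).1))))) _

include hU hlf in
theorem coord_injective (k : ℕ) : Function.Injective (coord F U x k) := by
  refine (injective_iff_map_eq_zero _).2 fun a ha => (lfFam F U hU hlf k).stalk_ext a fun σ hσ => ?_
  have h := η_coord F U x a (fun j => ⟨σ j, Set.mem_iInter.1 hσ j⟩)
  rw [congrFun ha _] at h
  exact h.symm.trans (map_zero _)

include hU hlf in
theorem coord_surjective (k : ℕ) : Function.Surjective (coord F U x k) := by
  intro c
  classical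
  obtain ⟨a, ha⟩ := (lfFam F U hU hlf k).stalk_surj (x := x) fun σ =>
    if hσ : x ∈ Zs U σ then
      ((stk x).map (η F (Zs U σ))).hom (c fun j => ⟨σ j, Set.mem_iInter.1 hσ j⟩) else 0
  refine ⟨a, funext fun s => ?_⟩
  haveI := isIso_stk_η F (Zs U (fun j => (s j).1)) (mem_Zs U x s)
  refine ((ConcreteCategory.bijective_of_isIso
    ((stk x).map (η F (Zs U (fun j => (s j).1))))).1 ?_)
  refine (η_coord F U x a s).trans ((ha _ (mem_Zs U x s)).trans ?_)
  rw [dif_pos (mem_Zs U x s)]

theorem coord_d {k : ℕ} (a : (stk x).obj (X F U k)) :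
    coord F U x (k + 1) (((stk x).map (d F U k)).hom a) = CechFin.D (coord F U x k a) := by
  funext s
  haveI := isIso_stk_η F (Zs U (fun j => (s j).1)) (mem_Zs U x s)
  refine ((ConcreteCategory.bijective_of_isIso
    ((stk x).map (η F (Zs U (fun j => (s j).1))))).1 ?_)
  refine (η_coord F U x _ s).trans ?_
  refine (ConcreteCategory.congr_hom ((stk x).map_comp (d F U k) _) a).symm.trans ?_
  rw [d, Pi.lift_π, Functor.map_sum]
  simp only [Functor.map_zsmul, CechFin.D]
  show _ = ((stk x).map _).hom (∑ i : Fin (k + 1), _)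
  rw [map_sum]
  refine (map_sum (evHom (B := (stk x).obj (fam F U (k + 1) fun j => (s j).1)) a) _ _).trans
    (Finset.sum_congr rfl fun i _ => ?_)
  rw [map_zsmul, map_zsmul]
  congr 1
  refine Eq.trans ?_ ((congrArg (fun z => z.hom (coord F U x k a (s ∘ i.succAbove)))
    (congrArg (stk x).map (η_res F (Zs_face U (fun j => (s j).1) i)))))
  refine (ConcreteCategory.congr_hom ((stk x).map_comp _ _) a).trans ?_
  refine Eq.trans ?_ (ConcreteCategory.congr_hom ((stk x).map_comp _ _) _).symm
  exact congrArg _ (η_coord F U x a (s ∘ i.succAbove)).symm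

end Coordinates

theorem hom_eq_zero {A B : CohTop.Ab S} (f : A ⟶ B)
    (h : ∀ (x : S) (a : (stk x).obj A), ((stk x).map f).hom a = 0) : f = 0 := by
  refine CategoryTheory.Sheaf.hom_ext (NatTrans.ext (funext fun V => AddCommGrpCat.ext fun s => ?_))
  refine TopCat.Presheaf.section_ext (B : TopCat.Sheaf AddCommGrpCat.{u} S) V.unop _ 0 fun y hy => ?_
  refine (TopCat.Presheaf.stalkFunctor_map_germ_apply V.unop y hy f.hom s).symm.trans ?_
  exact (h y _).trans (map_zero _).symm

include hU hlf in
theorem d_comp_d (k : ℕ) : d F U k ≫ d F U (k + 1) = 0 := by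
  refine hom_eq_zero _ fun x a => coord_injective F U hU hlf x _ ?_
  refine (congrArg _ (ConcreteCategory.congr_hom ((stk x).map_comp _ _) a)).trans ?_
  refine (coord_d F U x _).trans ?_
  exact ((congrArg CechFin.D (coord_d F U x a)).trans (CechFin.D_D _)).trans (map_zero _).symm

/-- The augmented complex in natural degrees. -/
noncomputable def cxNat : CochainComplex (CohTop.Ab S) ℕ :=
  CochainComplex.of (X F U) (d F U) (d_comp_d F U hU hlf)

lemma cxNat_d (k : ℕ) : (cxNat F U hU hlf).d k (k + 1) = d F U k :=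
  CochainComplex.of_d (X F U) (d F U) k

/-- The augmented complex in degrees `≥ -1`. -/
noncomputable def cx : CochainComplex (CohTop.Ab S) ℤ :=
  (cxNat F U hU hlf).extend (ComplexShape.embeddingUpIntGE (-1))

variable (hcov : ⋃ i, U i = Set.univ)

include hcov in
theorem exactAt_cxNat : ∀ k, (cxNat F U hU hlf).ExactAt k
  | 0 => by
    rw [HomologicalComplex.exactAt_iff' _ 0 0 1 (by simp) (by simp)]
    refine (TopCat.Sheaf.exact_iff_stalkFunctor_map_exact _).2 fun x => ?_
    rw [ShortComplex.ab_exact_iff]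
    intro (a : (stk x).obj (X F U 0)) ha
    refine ⟨0, ?_⟩
    change ((stk x).map ((cxNat F U hU hlf).d 0 1)).hom a = 0 at ha
    rw [cxNat_d] at ha
    rw [map_zero]
    refine (coord_injective F U hU hlf x _ ?_).symm
    rw [map_zero]
    obtain ⟨i₀, hi₀⟩ := Set.mem_iUnion.1 (hcov.ge (Set.mem_univ x))
    exact CechFin.eq_zero_of_D ⟨i₀, hi₀⟩ _
      ((coord_d F U x a).symm.trans ((congrArg _ ha).trans (map_zero _)))
  | k + 1 => by
    rw [HomologicalComplex.exactAt_iff' _ k (k + 1) (k + 1 + 1) (by simp) (by simp)]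
    refine (TopCat.Sheaf.exact_iff_stalkFunctor_map_exact _).2 fun x => ?_
    rw [ShortComplex.ab_exact_iff]
    intro (a : (stk x).obj (X F U (k + 1))) ha
    change ((stk x).map ((cxNat F U hU hlf).d (k + 1) (k + 1 + 1))).hom a = 0 at ha
    rw [cxNat_d] at ha
    obtain ⟨i₀, hi₀⟩ := Set.mem_iUnion.1 (hcov.ge (Set.mem_univ x))
    obtain ⟨b, hb⟩ := CechFin.exists_D_eq ⟨i₀, hi₀⟩ (coord F U x (k + 1) a)
      ((coord_d F U x a).symm.trans ((congrArg _ ha).trans (map_zero _)))
    obtain ⟨b', rfl⟩ := coord_surjective F U hU hlf x k b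
    refine ⟨b', coord_injective F U hU hlf x _ ?_⟩
    show coord F U x (k + 1) (((stk x).map ((cxNat F U hU hlf).d k (k + 1))).hom b') = _
    rw [cxNat_d]
    exact (coord_d F U x b').trans hb

include hcov in
theorem acyclic_cx : (cx F U hU hlf).Acyclic := fun p => by
  by_cases h : -1 ≤ p
  · obtain ⟨k, hk⟩ : ∃ k : ℕ, (ComplexShape.embeddingUpIntGE (-1)).f k = p :=
      ⟨(p + 1).toNat, by simp; omega⟩
    exact ((cxNat F U hU hlf).extend_exactAt_iff _ hk).2 (exactAt_cxNat F U hU hlf hcov k)
  · exact (cxNat F U hU hlf).extend_exactAt _ p fun k hk => by simp at hk; omega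

lemma isZero_cx (p : ℤ) (hp : p < -1) : IsZero ((cx F U hU hlf).X p) :=
  (cxNat F U hU hlf).isZero_extend_X _ p fun k hk => by simp at hk; omega

/-- The term in degree `k - 1`. -/
noncomputable def cxXIso (k : ℕ) (p : ℤ) (hp : -1 + (k : ℤ) = p) : (cx F U hU hlf).X p ≅ X F U k :=
  (cxNat F U hU hlf).extendXIso (ComplexShape.embeddingUpIntGE (-1)) (i := k) hp

end Groth.Agent.H15Site.DescTop.ClosedCover
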