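import Mathlib.Algebra.Homology.Embedding.Extend
import Mathlib.Algebra.Homology.Additive

/-!
# Applying an additive functor commutes with extension of complexes
-/

set_option autoImplicit false
set_option backward.isDefEq.respectTransparency false

universe v v' u u'

open CategoryTheory CategoryTheory.Limits

namespace Groth.Agent.H15Site.DescTop

variable {ι ι' : Type*} {c : ComplexShape ι} {c' : ComplexShape ι'} (e : c.Embedding c')
  {A : Type u} [Category.{v} A] [Preadditive A] [HasZeroObject A]
  {B : Type u'} [Category.{v'} B] [Preadditive B] [HasZeroObject B]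
  (F : A ⥤ B) [F.Additive]

open Classical in
/-- Applying an additive functor commutes with extension by zero. -/
noncomputable def mapExtendIso (K : HomologicalComplex A c) :
    (F.mapHomologicalComplex c').obj (K.extend e) ≅ ((F.mapHomologicalComplex c).obj K).extend e :=
  HomologicalComplex.Hom.isoOfComponents
    (fun i => if h : ∃ k, e.f k = i then
        F.mapIso (HomologicalComplex.extendXIso K _ h.choose_spec) ≪≫
          (HomologicalComplex.extendXIso ((F.mapHomologicalComplex c).obj K) _ h.choose_spec).symm
      else IsZero.iso
        (F.map_isZero (K.isZero_extend_X _ _ fun k hk => h ⟨k, hk⟩))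
        (HomologicalComplex.isZero_extend_X _ _ _ fun k hk => h ⟨k, hk⟩))
    (fun i j hij => by
      by_cases hj : ∃ k, e.f k = j
      · by_cases hi : ∃ k, e.f k = i
        · rw [dif_pos hi, dif_pos hj]
          have h1 := K.extend_d_eq e hi.choose_spec hj.choose_spec
          have h2 := ((F.mapHomologicalComplex c).obj K).extend_d_eq e hi.choose_spec hj.choose_spec
          rw [h2]
          show (F.map (HomologicalComplex.extendXIso K _ hi.choose_spec).hom ≫ _) ≫ _ ≫
            F.map (K.d hi.choose hj.choose) ≫ _ = F.map _ ≫ F.map _ ≫ _
          rw [← F.map_comp_assoc, h1]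
          simp only [Category.assoc, Iso.inv_hom_id, Category.comp_id]
          rw [F.map_comp, Category.assoc]
          erw [Iso.inv_hom_id_assoc]
          rfl
        · exact (F.map_isZero (K.isZero_extend_X _ _ fun k hk => hi ⟨k, hk⟩)).eq_of_src _ _
      · exact (HomologicalComplex.isZero_extend_X _ _ _ fun k hk => hj ⟨k, hk⟩).eq_of_tgt _ _)

end Groth.Agent.H15Site.DescTop
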