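import Groth.Agent.H15Site.DescTop.ClosedCover
import Groth.Agent.H15Site.DescTop.ExtendMap
import Mathlib.Algebra.Homology.Embedding.ExtendHomology

/-!
# Cohomology of the terms of the Čech resolution of a closed covering
-/

set_option autoImplicit false
set_option linter.style.haveILetI false
set_option linter.unusedSectionVars false
set_option backward.isDefEq.respectTransparency false

universe u

open CategoryTheory CategoryTheory.Limits Opposite TopologicalSpace

namespace Groth.Agent.H15Site.DescTop.ClosedCover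

open Groth.Agent.H15Site PullCoh

attribute [local instance 10000] SiteInst.hasSheafifySite SiteInst.hasWeakSheafifySite
  SiteInst.hasExtSite SiteInst.enoughInjSite

instance additive_push {A B : TopCat.{u}} (f : A ⟶ B) : (CohTop.push f).Additive :=
  have := ClosedPushAb.push_preservesFiniteLimits f
  Functor.additive_of_preserves_binary_products _

instance additive_push_incl {T : TopCat.{u}} (A : Set T) : (CohTop.push (incl A)).Additive :=
  additive_push (incl A)

/-- Homology of sections of an extended complex. -/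
noncomputable def ΓExtIso {T : TopCat.{u}} (N : CochainComplex (CohTop.Ab T) ℕ) (q : ℕ) :
    (ΓCx (N.extend ComplexShape.embeddingUpNat)).homology (q : ℤ) ≅
      (((PullCoh.Γ T).mapHomologicalComplex (ComplexShape.up ℕ)).obj N).homology q :=
  HomologicalComplex.homologyMapIso (DescTop.mapExtendIso ComplexShape.embeddingUpNat (PullCoh.Γ T) N) (q : ℤ) ≪≫
    (((PullCoh.Γ T).mapHomologicalComplex (ComplexShape.up ℕ)).obj N).extendHomologyIso
      ComplexShape.embeddingUpNat rfl

variable {S : TopCat.{u}} (F : CohTop.Ab S) {I : Type u} (U : I → Set S)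
  (hU : ∀ i, IsClosed (U i)) (hlf : LocallyFinite U) (k : ℕ)

/-- The injective resolution on an intersection. -/
noncomputable abbrev J (σ : Fin k → I) : InjectiveResolution (G F (incl (Zs U σ))) :=
  injectiveResolution _

/-- Its terms pushed forward. -/
noncomputable abbrev pJ (n : ℕ) (σ : Fin k → I) : CohTop.Ab S :=
  (CohTop.push (incl (Zs U σ))).obj ((J F U k σ).cocomplex.X n)

/-- The product of the pushed resolutions. -/
noncomputable def N : CochainComplex (CohTop.Ab S) ℕ where
  X n := ∏ᶜ pJ F U k n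
  d i j := Limits.Pi.map fun σ => (CohTop.push (incl (Zs U σ))).map ((J F U k σ).cocomplex.d i j)
  shape i j h := Limits.Pi.hom_ext (f := pJ F U k j) _ _ fun σ => by
    rw [Limits.Pi.map_π, (J F U k σ).cocomplex.shape i j h, Functor.map_zero, comp_zero, zero_comp]
  d_comp_d' i j l _ _ := Limits.Pi.hom_ext (f := pJ F U k l) _ _ fun σ => by
    rw [Category.assoc, Limits.Pi.map_π, Limits.Pi.map_π_assoc, ← Functor.map_comp,
      HomologicalComplex.d_comp_d, Functor.map_zero, comp_zero, zero_comp]

/-- The augmentation. -/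
noncomputable def εN :
    (CochainComplex.single₀ (CohTop.Ab S)).obj (X F U k) ⟶ N F U k :=
  (CochainComplex.fromSingle₀Equiv _ _).symm
    ⟨Limits.Pi.map fun σ => (CohTop.push (incl (Zs U σ))).map ((J F U k σ).ι.f 0),
      Limits.Pi.hom_ext (f := pJ F U k 1) _ _ fun σ => by
        show (Limits.Pi.map _ ≫ Limits.Pi.map _) ≫ _ = 0 ≫ _
        rw [Category.assoc, Limits.Pi.map_π, Limits.Pi.map_π_assoc, ← Functor.map_comp,
          InjectiveResolution.ι_f_zero_comp_complex_d, Functor.map_zero, comp_zero, zero_comp]⟩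

include hU in
lemma push_exact (σ : Fin k → I) {T : ShortComplex (CohTop.Ab (TopCat.of (Zs U σ)))} (hT : T.Exact) :
    (T.map (CohTop.push (incl (Zs U σ)))).Exact :=
  have := ClosedPushAb.push_preservesFiniteLimits (incl (Zs U σ))
  have := ClosedPushAb.push_preservesFiniteColimits (incl (Zs U σ))
    (isClosed_iInter fun j => hU _).isClosedEmbedding_subtypeVal
  hT.map _

include hU hlf in
lemma lfFam_pJ (n : ℕ) : LFFam (pJ F U k n) (Zs U) where
  closed σ := isClosed_iInter fun j => hU _
  supp σ W hW := ClosedPushAb.subsingleton_sections_bot ((J F U k σ).cocomplex.X n)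
    (le_bot_iff.1 fun y hy => Set.disjoint_left.1 hW hy y.2)
  lf := (lfFam F U hU hlf k).lf

include hU hlf in
theorem quasiIso_εN : QuasiIso (εN F U k) := by
  refine ⟨fun n => ?_⟩
  cases n with
  | zero =>
    rw [CochainComplex.quasiIsoAt₀_iff, ShortComplex.quasiIso_iff_of_zeros]
    · let T : (Fin k → I) → ShortComplex (CohTop.Ab S) := fun σ =>
        (ShortComplex.mk _ _ (J F U k σ).ι_f_zero_comp_complex_d).map (CohTop.push (incl (Zs U σ)))
      have hT := exact_prod (Z := Zs U) (T := T) (lfFam F U hU hlf k) (lfFam_pJ F U hU hlf k 0)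
        fun σ => push_exact U hU k σ (J F U k σ).exact₀
      refine (ShortComplex.exact_and_mono_f_iff_of_iso ?_).2 ⟨hT, ?_⟩
      · exact ShortComplex.isoMk (Iso.refl _) (Iso.refl _) (Iso.refl _)
          (by simp [T, εN]) (by simp [T]; rfl)
      · haveI : ∀ σ, Mono ((CohTop.push (incl (Zs U σ))).map ((J F U k σ).ι.f 0)) := fun σ =>
          have := ClosedPushAb.push_preservesFiniteLimits (incl (Zs U σ))
          inferInstance
        exact inferInstanceAs
          (Mono (Limits.Pi.map fun σ => (CohTop.push (incl (Zs U σ))).map ((J F U k σ).ι.f 0)))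
    all_goals first | rfl | exact (N F U k).shape 0 0 (by simp)
  | succ n =>
    rw [quasiIsoAt_iff_exactAt _ _ (HomologicalComplex.exactAt_single_obj _ _ _ _ (by simp)),
      HomologicalComplex.exactAt_iff' _ n (n + 1) (n + 1 + 1) (by simp) (by simp)]
    exact exact_prod (Z := Zs U)
      (T := fun σ => ((J F U k σ).cocomplex.sc' n (n + 1) (n + 1 + 1)).map
        (CohTop.push (incl (Zs U σ))))
      (lfFam_pJ F U hU hlf k n) (lfFam_pJ F U hU hlf k (n + 1)) fun σ => push_exact U hU k σ
        (((J F U k σ).cocomplex.exactAt_iff' n (n + 1) (n + 1 + 1) (by simp) (by simp)).1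
          ((J F U k σ).cocomplex_exactAt_succ n))

/-- The projection on global sections. -/
noncomputable def ΓN (σ : Fin k → I) :
    ((PullCoh.Γ S).mapHomologicalComplex (ComplexShape.up ℕ)).obj (N F U k) ⟶
      ((PullCoh.Γ (TopCat.of (Zs U σ))).mapHomologicalComplex (ComplexShape.up ℕ)).obj
        (J F U k σ).cocomplex where
  f n := (PullCoh.Γ S).map (Pi.π (pJ F U k n) σ)
  comm' i j _ := by
    show (PullCoh.Γ S).map (Pi.π (pJ F U k i) σ) ≫
        (PullCoh.Γ S).map ((CohTop.push (incl (Zs U σ))).map ((J F U k σ).cocomplex.d i j)) =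
      (PullCoh.Γ S).map ((N F U k).d i j) ≫ (PullCoh.Γ S).map (Pi.π (pJ F U k j) σ)
    rw [← (PullCoh.Γ S).map_comp, ← (PullCoh.Γ S).map_comp]
    exact congrArg (PullCoh.Γ S).map (Limits.Pi.map_π
      (fun σ => (CohTop.push (incl (Zs U σ))).map ((J F U k σ).cocomplex.d i j)) σ).symm

theorem flasque_N_ext (p : ℤ) :
    H10Coh.Flasque (((N F U k).extend ComplexShape.embeddingUpNat).X p) := by
  rcases Int.lt_or_le p 0 with hp | hp
  · intro V W h s
    refine ⟨0, ?_⟩
    have := AddCommGrpCat.subsingleton_of_isZero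
      ((sheafToPresheaf _ _ ⋙ (evaluation _ AddCommGrpCat.{u}).obj (op W)).map_isZero
        ((N F U k).isZero_extend_X ComplexShape.embeddingUpNat p fun m hm => by simp at hm; omega))
    exact @Subsingleton.elim _ this _ _
  · obtain ⟨n, rfl⟩ := Int.eq_ofNat_of_zero_le hp
    refine flasque_of_iso ((N F U k).extendXIso ComplexShape.embeddingUpNat
      (show ComplexShape.embeddingUpNat.f n = (n : ℤ) from rfl)) ?_
    intro V W h s
    choose t ht using fun σ => H10Coh.flasque_push (incl (Zs U σ))
      (H10Coh.flasque_of_injective ((J F U k σ).cocomplex.X n)) h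
        (((sec W).map (Pi.π (pJ F U k n) σ)).hom s)
    obtain ⟨t', ht'⟩ := (bijective_sect_prod (pJ F U k n) V).2 t
    refine ⟨t', (bijective_sect_prod (pJ F U k n) W).1 (funext fun σ => ?_)⟩
    refine (ConcreteCategory.congr_hom ((Pi.π (pJ F U k n) σ).hom.naturality (homOfLE h).op) t').trans ?_
    exact (congrArg _ (congrFun ht' σ)).trans (ht σ)

theorem flasque_J (σ : Fin k → I) (p : ℤ) : H10Coh.Flasque ((J F U k σ).cochainComplex.X p) :=
  H10Coh.flasque_of_injective _

include hU hlf in
/-- `H^q` of a product of closed pieces. -/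
theorem nonempty_H_X_iso (q : ℕ) :
    Nonempty (AddCommGrpCat.of (CohTop.H (X F U k) q) ≅
      AddCommGrpCat.of (∀ σ : Fin k → I, CohTop.H (G F (incl (Zs U σ))) q)) := by
  haveI := quasiIso_εN F U hU hlf k
  haveI := (HomologicalComplex.quasiIso_extendMap_iff (εN F U k) ComplexShape.embeddingUpNat).2 inferInstance
  haveI : CochainComplex.IsStrictlyGE ((N F U k).extend ComplexShape.embeddingUpNat) 0 := by
    rw [CochainComplex.isStrictlyGE_iff]
    intro p hp
    exact (N F U k).isZero_extend_X _ p fun m hm => by simp at hm; omega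
  let ι : (CochainComplex.singleFunctor (CohTop.Ab S) 0).obj (X F U k) ⟶
      (N F U k).extend ComplexShape.embeddingUpNat :=
    (HomologicalComplex.extendSingleIso (i := 0) (i' := 0) ComplexShape.embeddingUpNat (X F U k)
      (by simp)).inv ≫ HomologicalComplex.extendMap (εN F U k) ComplexShape.embeddingUpNat
  haveI : QuasiIso ι :=
    quasiIso_comp _ (HomologicalComplex.extendMap (εN F U k) ComplexShape.embeddingUpNat)
  obtain ⟨e₁⟩ := nonempty_H_iso_of_flasque_res (X F U k) _ (flasque_N_ext F U k) ι q
  have e₃ : ∀ σ, Nonempty (((((PullCoh.Γ (TopCat.of (Zs U σ))).mapHomologicalComplex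
      (ComplexShape.up ℕ)).obj (J F U k σ).cocomplex).homology q) ≅
      AddCommGrpCat.of (CohTop.H (G F (incl (Zs U σ))) q)) := fun σ => by
    obtain ⟨e⟩ := nonempty_H_iso_of_flasque_res _ (J F U k σ).cochainComplex (flasque_J F U k σ)
      (J F U k σ).ι' q
    exact ⟨(ΓExtIso (J F U k σ).cocomplex q).symm ≪≫ e⟩
  have hb := bijective_homologyMap_family
    (S := (((PullCoh.Γ S).mapHomologicalComplex (ComplexShape.up ℕ)).obj (N F U k)).sc q)
    (fun σ => (((PullCoh.Γ (TopCat.of (Zs U σ))).mapHomologicalComplex (ComplexShape.up ℕ)).obj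
      (J F U k σ).cocomplex).sc q)
    (fun σ => (HomologicalComplex.shortComplexFunctor _ _ q).map (ΓN F U k σ))
    (bijective_sect_prod (pJ F U k _) ⊤) (bijective_sect_prod (pJ F U k _) ⊤)
    (bijective_sect_prod (pJ F U k _) ⊤)
  let e₂ := AddEquiv.ofBijective
    (AddMonoidHom.mk' (fun (x : (((PullCoh.Γ S).mapHomologicalComplex (ComplexShape.up ℕ)).obj
        (N F U k)).homology q) σ => (HomologicalComplex.homologyMap (ΓN F U k σ) q).hom x)
      (fun a b => funext fun σ => map_add _ a b)) hb
  exact ⟨e₁.symm ≪≫ ΓExtIso (N F U k) q ≪≫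
    (e₂.trans (AddEquiv.piCongrRight fun σ => (e₃ σ).some.addCommGroupIsoToAddEquiv)).toAddCommGrpIso⟩

end Groth.Agent.H15Site.DescTop.ClosedCover
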