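import Groth.Agent.H15Site.DescTop.StalkPull
import Groth.Agent.H15Site.SiteInst
import Mathlib.CategoryTheory.Limits.Preserves.Shapes.Products
import Mathlib.Topology.LocallyFinite
import Mathlib.Topology.Sheaves.Abelian

/-!
# Products of a locally finite family of abelian sheaves
-/

set_option autoImplicit false
set_option linter.style.haveILetI false
set_option linter.unusedSectionVars false
set_option backward.isDefEq.respectTransparency false

universe u

open CategoryTheory CategoryTheory.Limits Opposite TopologicalSpace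

namespace Groth.Agent.H15Site.DescTop

attribute [local instance 10000] SiteInst.hasSheafifySite SiteInst.hasWeakSheafifySite
  SiteInst.hasExtSite SiteInst.enoughInjSite

variable {S : TopCat.{u}}

/-- Sections over an open. -/
noncomputable abbrev sec (V : Opens S) : CohTop.Ab S ⥤ AddCommGrpCat.{u} :=
  sheafToPresheaf (Opens.grothendieckTopology S) AddCommGrpCat.{u} ⋙
    (evaluation (Opens S)ᵒᵖ AddCommGrpCat.{u}).obj (op V)

variable {K : Type u}

/-- Sections of a product are families of sections. -/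
theorem bijective_sect_prod (G : K → CohTop.Ab S) (V : Opens S) :
    Function.Bijective (fun (t : (sec V).obj (∏ᶜ G)) (σ : K) => ((sec V).map (Pi.π G σ)).hom t) := by
  haveI := (sheafificationAdjunction (Opens.grothendieckTopology S) AddCommGrpCat.{u}).rightAdjoint_preservesLimits
  have hl : IsLimit (Fan.mk ((sec V).obj (∏ᶜ G)) fun σ => (sec V).map (Pi.π G σ)) :=
    isLimitFanMkObjOfIsLimit (sec V) G _ (productIsProduct G)
  constructor
  · intro t t' h
    exact Concrete.isLimit_ext _ hl t t' fun ⟨σ⟩ => congrFun h σ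
  · intro b
    let P := AddCommGrpCat.of (∀ σ : K, (sec V).obj (G σ))
    let l : P ⟶ (sec V).obj (∏ᶜ G) :=
      Fan.IsLimit.lift hl fun σ => AddCommGrpCat.ofHom (Pi.evalAddMonoidHom _ σ)
    exact ⟨l.hom b, funext fun σ => ConcreteCategory.congr_hom
      (Fan.IsLimit.fac hl (fun σ => AddCommGrpCat.ofHom (Pi.evalAddMonoidHom _ σ)) σ) b⟩

/-- A locally finite family of sheaves with closed supports. -/
structure LFFam (G : K → CohTop.Ab S) (Z : K → Set S) : Prop where
  closed : ∀ σ, IsClosed (Z σ)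
  supp : ∀ σ (W : Opens S), Disjoint (W : Set S) (Z σ) → Subsingleton ((sec W).obj (G σ))
  lf : ∀ x : S, ∃ W : Opens S, x ∈ W ∧ {σ | ¬ Disjoint (W : Set S) (Z σ)}.Finite

variable {G : K → CohTop.Ab S} {Z : K → Set S}

/-- The component at `σ` of a stalk element. -/
noncomputable abbrev comp (G : K → CohTop.Ab S) (x : S) (σ : K) :
    (stk x).obj (∏ᶜ G) →+ (stk x).obj (G σ) :=
  ((stk x).map (Pi.π G σ)).hom

theorem LFFam.stalk_ext (h : LFFam G Z) {x : S} (a : (stk x).obj (∏ᶜ G))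
    (ha : ∀ σ, x ∈ Z σ → comp G x σ a = 0) : a = 0 := by
  obtain ⟨U, hxU, t, rfl⟩ := TopCat.Presheaf.exists_germ_eq (∏ᶜ G).obj a
  obtain ⟨W, hxW, hfin⟩ := h.lf x
  have key : ∀ σ, ∃ V : Opens S, x ∈ V ∧ ∀ (W' : Opens S) (hU : W' ≤ U), W' ≤ V →
      ((sec W').map (Pi.π G σ)).hom ((∏ᶜ G).obj.map (homOfLE hU).op t) = 0 := by
    intro σ
    by_cases hσ : x ∈ Z σ
    · have h0 : TopCat.Presheaf.germ (G σ).obj U x hxU ((Pi.π G σ).hom.app (op U) t) =
          TopCat.Presheaf.germ (G σ).obj U x hxU 0 :=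
        ((TopCat.Presheaf.stalkFunctor_map_germ_apply U x hxU (Pi.π G σ).hom t).symm.trans
          (ha σ hσ)).trans (map_zero _).symm
      obtain ⟨V, hxV, iU, iU', hV⟩ := TopCat.Presheaf.germ_eq (G σ).obj x hxU hxU _ _ h0
      refine ⟨V, hxV, fun W' hU hW' => ?_⟩
      refine (ConcreteCategory.congr_hom ((Pi.π G σ).hom.naturality (homOfLE hU).op) t).trans ?_
      rw [Subsingleton.elim (homOfLE hU) (homOfLE hW' ≫ iU), op_comp]
      refine (ConcreteCategory.congr_hom ((G σ).obj.map_comp _ _) _).trans ?_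
      exact (congrArg ((G σ).obj.map (homOfLE hW').op) (hV.trans (map_zero _))).trans (map_zero _)
    · refine ⟨⟨(Z σ)ᶜ, (h.closed σ).isOpen_compl⟩, hσ, fun W' hU hW' => ?_⟩
      have := h.supp σ W' (Set.disjoint_left.2 fun y hy hz => hW' hy hz)
      exact Subsingleton.elim _ _
  choose V hxV hV using key
  let W' : Opens S := W ⊓ U ⊓ ⟨⋂ σ ∈ {σ | ¬ Disjoint (W : Set S) (Z σ)}, (V σ : Set S),
    hfin.isOpen_biInter fun σ _ => (V σ).isOpen⟩
  have hxW' : x ∈ W' := ⟨⟨hxW, hxU⟩, Set.mem_iInter₂.2 fun σ _ => hxV σ⟩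
  have hU : W' ≤ U := fun y hy => hy.1.2
  have h0 : (∏ᶜ G).obj.map (homOfLE hU).op t = 0 := (bijective_sect_prod G W').1 (funext fun σ => by
    show ((sec W').map (Pi.π G σ)).hom _ = ((sec W').map (Pi.π G σ)).hom 0
    rw [map_zero]
    by_cases hσ : Disjoint (W : Set S) (Z σ)
    · have := h.supp σ W' (hσ.mono_left fun y hy => hy.1.1)
      exact Subsingleton.elim _ _
    · exact hV σ W' hU fun y hy => (Set.mem_iInter₂.1 hy.2) σ hσ)
  rw [← TopCat.Presheaf.germ_res_apply (∏ᶜ G).obj (homOfLE hU) x hxW' t, h0]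
  exact map_zero _

theorem LFFam.stalk_surj (h : LFFam G Z) {x : S} (b : ∀ σ, (stk x).obj (G σ)) :
    ∃ a, ∀ σ, x ∈ Z σ → comp G x σ a = b σ := by
  classical
  obtain ⟨W, hxW, hfin⟩ := h.lf x
  choose V hxV r hr using fun σ => TopCat.Presheaf.exists_germ_eq (G σ).obj (b σ)
  let W' : Opens S := W ⊓ ⟨⋂ σ ∈ {σ | ¬ Disjoint (W : Set S) (Z σ)}, (V σ : Set S),
    hfin.isOpen_biInter fun σ _ => (V σ).isOpen⟩
  have hxW' : x ∈ W' := ⟨hxW, Set.mem_iInter₂.2 fun σ _ => hxV σ⟩
  let fam : ∀ σ, (sec W').obj (G σ) := fun σ =>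
    if hσ : W' ≤ V σ then (G σ).obj.map (homOfLE hσ).op (r σ) else 0
  obtain ⟨t, ht⟩ := (bijective_sect_prod G W').2 fam
  refine ⟨TopCat.Presheaf.germ (∏ᶜ G).obj W' x hxW' t, fun σ hσ => ?_⟩
  refine (TopCat.Presheaf.stalkFunctor_map_germ_apply W' x hxW' (Pi.π G σ).hom t).trans ?_
  refine (congrArg _ (congrFun ht σ)).trans ?_
  have hle : W' ≤ V σ := fun y hy => (Set.mem_iInter₂.1 hy.2) σ
    (Set.not_disjoint_iff.2 ⟨x, hxW, hσ⟩)
  show TopCat.Presheaf.germ (G σ).obj W' x hxW' (dite _ _ _) = _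
  rw [dif_pos hle]
  exact (TopCat.Presheaf.germ_res_apply (G σ).obj (homOfLE hle) x hxW' (r σ)).trans (hr σ)

/-- The product of an exact family over a locally finite family is exact. -/
theorem exact_prod {T : K → ShortComplex (CohTop.Ab S)}
    (h₁ : LFFam (fun σ => (T σ).X₁) Z) (h₂ : LFFam (fun σ => (T σ).X₂) Z) (hT : ∀ σ, (T σ).Exact) :
    (ShortComplex.mk (Limits.Pi.map fun σ => (T σ).f) (Limits.Pi.map fun σ => (T σ).g)
      (by ext σ; simp)).Exact := by
  refine (TopCat.Sheaf.exact_iff_stalkFunctor_map_exact _).2 fun x => ?_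
  rw [ShortComplex.ab_exact_iff]
  intro a ha
  change ((stk x).map (Limits.Pi.map fun σ => (T σ).g)).hom a = 0 at ha
  have hx : ∀ σ, ∃ b, ((stk x).map (T σ).f).hom b = comp _ x σ a := fun σ => by
    refine (ShortComplex.ab_exact_iff _).1
      ((TopCat.Sheaf.exact_iff_stalkFunctor_map_exact (T σ)).1 (hT σ) x) _ ?_
    refine (ConcreteCategory.congr_hom ((stk x).map_comp (Pi.π _ σ) (T σ).g) a).symm.trans ?_
    rw [← Limits.Pi.map_π (fun σ => (T σ).g) σ]
    refine (ConcreteCategory.congr_hom ((stk x).map_comp _ _) a).trans ?_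
    exact (congrArg ((stk x).map (Pi.π (fun σ => (T σ).X₃) σ)).hom ha).trans (map_zero _)
  choose b hb using hx
  obtain ⟨a', ha'⟩ := h₁.stalk_surj b
  refine ⟨a', sub_eq_zero.1 (h₂.stalk_ext _ fun σ hσ => ?_)⟩
  rw [map_sub, sub_eq_zero, ← hb σ, ← ha' σ hσ]
  refine (ConcreteCategory.congr_hom ((stk x).map_comp _ _) a').symm.trans ?_
  rw [Limits.Pi.map_π]
  exact ConcreteCategory.congr_hom ((stk x).map_comp _ _) a'

end Groth.Agent.H15Site.DescTop
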